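import Groth.Agent.AlgSpGrp.Factor
import Groth.Agent.AGFLib.QuasiComp.Albanese
import Groth.Agent.SekSuwaLib.CharLift
import Groth.Agent.SrcDescent.SchemeFppf
import Groth.Agent.MorLib.Thickening
import Groth.Agent.S3278
import Mathlib.CategoryTheory.Monoidal.Cartesian.CommGrp_
import Mathlib.CategoryTheory.Abelian.Basic

/-!
# Abelian categories of commutative algebraic groups over a field
-/

set_option autoImplicit false
set_option backward.isDefEq.respectTransparency false
set_option backward.isDefEq.respectTransparency.types false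
set_option linter.style.haveILetI false

universe u

open CategoryTheory Limits AlgebraicGeometry MonoidalCategory CartesianMonoidalCategory MonObj GrpObj
open Groth.Agent.GrpSchLib
open scoped MonObj

noncomputable section

namespace Groth.Agent.CommAlgGrp

section Generic

variable {C : Type*} [Category C] [CartesianMonoidalCategory C] [BraidedCategory C]

/-- Homomorphisms of commutative group objects as homomorphisms of group objects. -/
def homEquiv (A B : CommGrp C) : (A ⟶ B) ≃ Additive (A.toGrp ⟶ B.toGrp) where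
  toFun f := Additive.ofMul f.hom
  invFun f := InducedCategory.homMk f.toMul
  left_inv _ := rfl
  right_inv _ := rfl

instance (A B : CommGrp C) : AddCommGroup (A ⟶ B) := (homEquiv A B).addCommGroup

theorem add_hom {A B : CommGrp C} (f g : A ⟶ B) : (f + g).hom.hom.hom = f.hom.hom.hom * g.hom.hom.hom := rfl

theorem zero_hom {A B : CommGrp C} : (0 : A ⟶ B).hom.hom.hom = 1 := rfl

/-- Commutative group objects form a preadditive category. -/
instance preadditive : Preadditive (CommGrp C) where
  homGroup _ _ := inferInstance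
  add_comp A B D f f' g := by
    ext
    show (f.hom.hom.hom * f'.hom.hom.hom) ≫ g.hom.hom.hom = (f.hom.hom.hom ≫ g.hom.hom.hom) * _
    exact MonObj.mul_comp _ _ _
  comp_add A B D f g g' := by
    ext
    show f.hom.hom.hom ≫ (g.hom.hom.hom * g'.hom.hom.hom) = (f.hom.hom.hom ≫ g.hom.hom.hom) * _
    exact MonObj.comp_mul _ _ _

/-- A homomorphism of commutative group objects. -/
def homOf {A B : CommGrp C} (f : A.X ⟶ B.X) (hf : IsMonHom f) : A ⟶ B :=
  InducedCategory.homMk (haveI := hf; Grp.homMk' ⟨f⟩)

@[simp] theorem homOf_hom {A B : CommGrp C} (f : A.X ⟶ B.X) (hf : IsMonHom f) : (homOf f hf).hom.hom.hom = f := rfl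

/-- A subobject of a commutative group object is commutative. -/
theorem isCommMonObj_of_mono {G N : C} [GrpObj G] [GrpObj N] [IsCommMonObj G] (i : N ⟶ G) [IsMonHom i] [Mono i] :
    IsCommMonObj N where
  mul_comm := by
    rw [← cancel_mono i, Category.assoc, IsMonHom.mul_hom i, ← BraidedCategory.braiding_naturality_assoc,
      IsCommMonObj.mul_comm]

/-- A quotient of a commutative group object is commutative. -/
theorem isCommMonObj_of_epi {G Q : C} [GrpObj G] [GrpObj Q] [IsCommMonObj G] (q : G ⟶ Q) [IsMonHom q]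
    [Epi (q ⊗ₘ q)] : IsCommMonObj Q where
  mul_comm := by
    rw [← cancel_epi (q ⊗ₘ q), ← IsMonHom.mul_hom q, BraidedCategory.braiding_naturality_assoc,
      ← IsMonHom.mul_hom q, ← Category.assoc, IsCommMonObj.mul_comm]

end Generic

variable {k : Type u} [Field k]

variable (k) in
/-- Commutative group schemes over the field. -/
abbrev CG := CommGrp (Over (Spec (CommRingCat.of k)))

/-- The conditions on a class of commutative algebraic groups for it to be an abelian category. -/
structure Closed (P : ObjectProperty (CG k)) : Prop where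
  lft : ∀ G, P G → LocallyOfFiniteType G.X.hom
  qc : ∀ G, P G → QuasiCompact G.X.hom
  terminal : ∀ G : (CG k), IsIso G.X.hom → P G
  prod : ∀ G H P' : (CG k), P G → P H → P'.X = G.X ⊗ H.X → P P'
  sub : ∀ (G H : (CG k)) (i : H.X ⟶ G.X), IsClosedImmersion i.left → P G → P H
  quot : ∀ (G H : (CG k)) (q : G.X ⟶ H.X), IsMonHom q → Surjective q.left → Flat q.left →
    LocallyOfFinitePresentation q.left → IsSeparated H.X.hom → P G → P H

theorem covers {G Q : Over (Spec (CommRingCat.of k))} (q : G ⟶ Q) [Surjective q.left] [Flat q.left]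
    [LocallyOfFinitePresentation q.left] : FpqcDescLib.Covers q.left :=
  FpqcDescLib.covers_of_isCovering (FpqcDescLib.isCovering_of_lfp q.left)

theorem epi_tensor {G Q : Over (Spec (CommRingCat.of k))} (q : G ⟶ Q) [Surjective q.left] [Flat q.left]
    [LocallyOfFinitePresentation q.left] : Epi (q ⊗ₘ q) := by
  haveI : Epi (q ▷ G) := (FpqcDescLib.covers_whiskerRight (covers q) G).over_epi
  haveI : Epi (Q ◁ q) := (FpqcDescLib.covers_whiskerLeft (covers q) Q).over_epi
  rw [MonoidalCategory.tensorHom_def]
  exact epi_comp _ _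

theorem isNormalHom_of_comm {G N : Over (Spec (CommRingCat.of k))} [GrpObj G] [GrpObj N] [IsCommMonObj G]
    (i : N ⟶ G) : AlgGrp.IsNormalHom i := fun T g n => ⟨n, by rw [mul_comm g, mul_inv_cancel_right]⟩

variable {P : ObjectProperty (CG k)} (hP : Closed P)

include hP

theorem hasFiniteProducts : HasFiniteProducts P.FullSubcategory := by
  haveI : ∀ A B : P.FullSubcategory, HasLimit (pair A B) := fun A B => by
    let X : (CG k) := ⟨A.obj.X ⊗ B.obj.X⟩
    let Q : P.FullSubcategory := ⟨X, hP.prod A.obj B.obj X A.property B.property rfl⟩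
    let f₁ : Q ⟶ A := ObjectProperty.homMk (homOf (fst A.obj.X B.obj.X) inferInstance)
    let f₂ : Q ⟶ B := ObjectProperty.homMk (homOf (snd A.obj.X B.obj.X) inferInstance)
    refine ⟨⟨⟨BinaryFan.mk f₁ f₂, BinaryFan.isLimitMk (fun s => ObjectProperty.homMk (homOf
      (lift s.fst.hom.hom.hom.hom s.snd.hom.hom.hom.hom) inferInstance)) (fun s => ?_) (fun s => ?_)
      (fun s m h₁ h₂ => ?_)⟩⟩⟩
    · ext : 1; ext; exact congrArg CommaMorphism.left (lift_fst _ _)
    · ext : 1; ext; exact congrArg CommaMorphism.left (lift_snd _ _)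
    · ext : 1; apply CommGrp.hom_ext
      apply CartesianMonoidalCategory.hom_ext
      · exact (congrArg (fun m => m.hom.hom.hom.hom) h₁).trans (lift_fst _ _).symm
      · exact (congrArg (fun m => m.hom.hom.hom.hom) h₂).trans (lift_snd _ _).symm
  haveI : HasBinaryProducts P.FullSubcategory := hasBinaryProducts_of_hasLimit_pair _
  let T : (CG k) := CommGrp.trivial _
  let T' : P.FullSubcategory := ⟨T, hP.terminal T (inferInstanceAs (IsIso (𝟙 _)))⟩
  haveI : HasTerminal P.FullSubcategory := IsTerminal.hasTerminal (X := T')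
    (IsTerminal.ofUniqueHom (fun A => ObjectProperty.homMk (homOf (toUnit A.obj.X) inferInstance))
      fun A m => by ext : 1; exact CommGrp.hom_ext _ _ (toUnit_unique _ _))
  exact hasFiniteProducts_of_has_binary_and_terminal

theorem exists_kernel_fork {A B : P.FullSubcategory} (f : A ⟶ B) :
    ∃ (c : KernelFork f) (_ : IsLimit c), AlgGrp.IsKernel (Fork.ι c).hom.hom.hom.hom f.hom.hom.hom.hom := by
  haveI := hP.lft _ A.property
  haveI := hP.lft _ B.property
  haveI := RedImage.isSeparated_artinian B.obj.X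
  obtain ⟨N, _, i, _, hic, -, hk⟩ := GrpSchLib.exists_kernel f.hom.hom.hom.hom
  haveI := hic
  haveI : Mono i := Over.mono_of_mono_left i
  haveI := isCommMonObj_of_mono i
  let K : (CG k) := ⟨N⟩
  let K' : P.FullSubcategory := ⟨K, hP.sub A.obj K i hic A.property⟩
  let ι' : K' ⟶ A := ObjectProperty.homMk (homOf i inferInstance)
  have w : ι' ≫ f = 0 := by ext : 1; exact CommGrp.hom_ext _ _ (hk.w.trans rfl)
  have hl : ∀ s : KernelFork f, (Fork.ι s).hom.hom.hom.hom ≫ f.hom.hom.hom.hom = toUnit _ ≫ η[B.obj.X] :=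
    fun s => congrArg (fun m => m.hom.hom.hom.hom) s.condition
  have hk' : IsPullback i (toUnit N) f.hom.hom.hom.hom η[B.obj.X] := hk
  have hlm : ∀ s : KernelFork f, IsMonHom (hk'.lift _ _ (hl s)) := fun s =>
    SekSuwaLib.CharLift.isMonHom_of_mul _ fun x y => by
      rw [← cancel_mono i, MonObj.mul_comp (x ≫ _)]
      simp only [Category.assoc, hk'.lift_fst]
      exact MonObj.mul_comp _ _ _
  refine ⟨KernelFork.ofι ι' w, Fork.IsLimit.mk _ (fun s => ObjectProperty.homMk (homOf _ (hlm s))) (fun s => ?_)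
    (fun s m h => ?_), hk⟩
  · ext : 1; exact CommGrp.hom_ext _ _ (hk'.lift_fst _ _ (hl s))
  · ext : 1; apply CommGrp.hom_ext
    rw [← cancel_mono i]
    exact (congrArg (fun m => m.hom.hom.hom.hom) h).trans (hk'.lift_fst _ _ (hl s)).symm

theorem hasKernels : HasKernels P.FullSubcategory where
  has_limit f := by
    obtain ⟨c, hc, -⟩ := exists_kernel_fork hP f
    exact ⟨⟨⟨c, hc⟩⟩⟩

/-- The image factorisation, the cokernel and the kernel of the cokernel. -/
theorem exists_cokernel_cofork {A B : P.FullSubcategory} (f : A ⟶ B) :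
    ∃ (c : CokernelCofork f) (_ : IsColimit c) (I : Over (Spec (CommRingCat.of k))) (_ : GrpObj I)
      (p : A.obj.X ⟶ I) (i : I ⟶ B.obj.X), p ≫ i = f.hom.hom.hom.hom ∧ Surjective p.left ∧ Flat p.left ∧
        LocallyOfFinitePresentation p.left ∧ IsMonHom i ∧ IsClosedImmersion i.left ∧
        AlgGrp.IsKernel i (Cofork.π c).hom.hom.hom.hom := by
  haveI := hP.lft _ A.property
  haveI := hP.lft _ B.property
  haveI := hP.qc _ A.property
  haveI := RedImage.isSeparated_artinian B.obj.X
  haveI : QuasiCompact (f.hom.hom.hom.hom.left ≫ B.obj.X.hom) := by rw [Over.w]; infer_instance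
  haveI : QuasiCompact f.hom.hom.hom.hom.left := QuasiCompact.of_comp _ B.obj.X.hom
  obtain ⟨I, _, p, i, hp, hi, hpi, hpf, hps, hpl, hic, -, -⟩ :=
    AlgSpGrp.exists_factor f.hom.hom.hom.hom (MorLib.BF.flat_to_field (Field.toIsField k) _)
  haveI := hp; haveI := hi; haveI := hpf; haveI := hps; haveI := hpl; haveI := hic
  haveI : Mono i := Over.mono_of_mono_left i
  haveI : LocallyOfFiniteType I.hom := by rw [← Over.w i]; infer_instance
  have hn := isNormalHom_of_comm i
  obtain ⟨Q, _, q, hq, hqs, hqf, hql, hsep, hk, hquot⟩ := AlgSpGrp.exists_quot_field i hn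
  haveI := hq; haveI := hqs; haveI := hqf; haveI := hql
  haveI := epi_tensor q
  haveI := isCommMonObj_of_epi q
  let K : (CG k) := ⟨Q⟩
  let K' : P.FullSubcategory := ⟨K, hP.quot B.obj K q hq hqs hqf hql hsep B.property⟩
  let π' : B ⟶ K' := ObjectProperty.homMk (homOf q hq)
  have hiq : i ≫ q = 1 := hk.w
  have w : f ≫ π' = 0 := by
    ext : 1
    apply CommGrp.hom_ext
    show f.hom.hom.hom.hom ≫ q = 1
    rw [← hpi, Category.assoc, hiq, MonObj.comp_one]
  haveI : Epi p := (covers p).over_epi
  haveI : Epi q := (covers q).over_epi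
  have hl : ∀ s : CokernelCofork f, i ≫ (Cofork.π s).hom.hom.hom.hom = 1 := fun s => by
    rw [← cancel_epi p, reassoc_of% hpi, MonObj.comp_one]
    exact congrArg (fun m => m.hom.hom.hom.hom) s.condition
  choose m hm using fun s : CokernelCofork f => (S5237.result i hn q hquot _ (hl s)).exists
  exact ⟨CokernelCofork.ofπ π' w, Cofork.IsColimit.mk _ (fun s => ObjectProperty.homMk (homOf (m s) (hm s).2))
    (fun s => by ext : 1; exact CommGrp.hom_ext _ _ (hm s).1)
    (fun s m' h => by
      ext : 1; apply CommGrp.hom_ext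
      rw [← cancel_epi q]
      exact (congrArg (fun m => m.hom.hom.hom.hom) h).trans (hm s).1.symm),
    I, inferInstance, p, i, hpi, hps, hpf, hpl, hi, hic, hk⟩

theorem hasCokernels : HasCokernels P.FullSubcategory where
  has_colimit f := by
    obtain ⟨c, hc, -⟩ := exists_cokernel_cofork hP f
    exact ⟨⟨⟨c, hc⟩⟩⟩

theorem isNormalMonoCategory : IsNormalMonoCategory P.FullSubcategory where
  normalMonoOfMono {A B} f _ := by
    obtain ⟨c, hc, I, _, p, i, hpi, hps, hpf, hpl, hi, hic, hk⟩ := exists_cokernel_cofork hP f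
    obtain ⟨c', hc', hker⟩ := exists_kernel_fork hP f
    haveI := hps; haveI := hpf; haveI := hpl; haveI := hic
    haveI : Mono i := Over.mono_of_mono_left i
    haveI := hi
    haveI : IsMonHom p := SekSuwaLib.CharLift.isMonHom_of_mul p fun x y => by
      rw [← cancel_mono i, MonObj.mul_comp (x ≫ p), Category.assoc, Category.assoc, Category.assoc, hpi,
        MonObj.mul_comp]
    -- the kernel of `f` is zero, so `p` is an isomorphism
    have h0 : (Fork.ι c') = 0 := by
      rw [← cancel_mono f, zero_comp, KernelFork.condition]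
    have hN : (Fork.ι c').hom.hom.hom.hom = 1 := by rw [h0]; rfl
    haveI : Mono f.hom.hom.hom.hom := ⟨fun {T} a b hab => by
      have e : (a * b⁻¹) ≫ f.hom.hom.hom.hom = toUnit T ≫ η[B.obj.X] := by
        rw [MonObj.mul_comp, GrpObj.inv_comp, hab, mul_inv_cancel]; rfl
      have hker' : IsPullback (Fork.ι c').hom.hom.hom.hom (toUnit c'.pt.obj.X) f.hom.hom.hom.hom η[B.obj.X] := hker
      exact mul_inv_eq_one.1 ((hker'.lift_fst _ _ e).symm.trans
        ((congrArg (hker'.lift _ _ e ≫ ·) hN).trans (MonObj.comp_one _)))⟩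
    haveI : Mono (p ≫ i) := by rw [hpi]; infer_instance
    haveI : Mono p := mono_of_mono p i
    haveI : IsIso p := by
      obtain ⟨g, hg, -⟩ := (covers p).over_desc (𝟙 _) fun T a b e => by rw [(cancel_mono p).1 e]
      haveI : Epi p := (covers p).over_epi
      exact ⟨⟨g, hg, by rw [← cancel_epi p, reassoc_of% hg, Category.comp_id]⟩⟩
    have hk' : IsPullback i (toUnit I) (Cofork.π c).hom.hom.hom.hom η[c.pt.obj.X] := hk
    refine ⟨⟨c.pt, Cofork.π c, CokernelCofork.condition c, Fork.IsLimit.mk _ (fun s => ObjectProperty.homMk (homOf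
      (hk'.lift (Fork.ι s).hom.hom.hom.hom (toUnit _)
        (congrArg (fun m => m.hom.hom.hom.hom) (KernelFork.condition s)) ≫ inv p)
      (SekSuwaLib.CharLift.isMonHom_of_mul _ fun x y => ?_))) (fun s => ?_) (fun s m h => ?_)⟩⟩
    · rw [← cancel_mono p, MonObj.mul_comp (x ≫ _)]
      simp only [Category.assoc, IsIso.inv_hom_id, Category.comp_id]
      rw [← cancel_mono i, MonObj.mul_comp (x ≫ _)]
      simp only [Category.assoc, hk'.lift_fst]
      exact MonObj.mul_comp _ _ _
    · ext : 1; apply CommGrp.hom_ext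
      show (_ ≫ inv p) ≫ f.hom.hom.hom.hom = _
      rw [← hpi, Category.assoc, IsIso.inv_hom_id_assoc, hk'.lift_fst]
    · ext : 1; apply CommGrp.hom_ext
      show m.hom.hom.hom.hom = _ ≫ inv p
      rw [IsIso.eq_comp_inv, ← cancel_mono i, hk'.lift_fst, Category.assoc, hpi]
      exact congrArg (fun m => m.hom.hom.hom.hom) h

theorem isNormalEpiCategory : IsNormalEpiCategory P.FullSubcategory where
  normalEpiOfEpi {A B} f _ := by
    obtain ⟨c, hc, I, _, p, i, hpi, hps, hpf, hpl, hi, hic, hk⟩ := exists_cokernel_cofork hP f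
    obtain ⟨c', hc', hker⟩ := exists_kernel_fork hP f
    haveI := hps; haveI := hpf; haveI := hpl; haveI := hic
    have h0 : Cofork.π c = 0 := by
      rw [← cancel_epi f, comp_zero, CokernelCofork.condition]
    have e : 𝟙 B.obj.X ≫ (Cofork.π c).hom.hom.hom.hom = toUnit B.obj.X ≫ η[c.pt.obj.X] := by
      rw [h0, Category.id_comp]; rfl
    haveI : Mono i := Over.mono_of_mono_left i
    haveI : IsSplitEpi i := IsSplitEpi.mk' ⟨hk.lift _ _ e, hk.lift_fst _ _ _⟩
    haveI : IsIso i := isIso_of_mono_of_isSplitEpi i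
    haveI : IsIso i.left := ((Over.forget _).mapIso (asIso i)).isIso_hom
    haveI : Surjective f.hom.hom.hom.hom.left := by rw [← hpi, Over.comp_left]; infer_instance
    haveI : Flat f.hom.hom.hom.hom.left := by rw [← hpi, Over.comp_left]; infer_instance
    haveI : LocallyOfFinitePresentation f.hom.hom.hom.hom.left := by rw [← hpi, Over.comp_left]; infer_instance
    have hq := AGFLib.QuasiComp.isQuotient_of_kernel _ f.hom.hom.hom.hom hker
    haveI : Mono (Fork.ι c').hom.hom.hom.hom := ⟨fun a b e => hker.hom_ext e (toUnit_unique _ _)⟩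
    haveI : Epi f.hom.hom.hom.hom := (covers f.hom.hom.hom.hom).over_epi
    choose m hm using fun s : CokernelCofork (Fork.ι c') =>
      (S5237.result (Fork.ι c').hom.hom.hom.hom (isNormalHom_of_comm _) f.hom.hom.hom.hom hq
        (Cofork.π s).hom.hom.hom.hom (congrArg (fun m => m.hom.hom.hom.hom) s.condition)).exists
    exact ⟨⟨c'.pt, Fork.ι c', KernelFork.condition c', Cofork.IsColimit.mk _
      (fun s => ObjectProperty.homMk (homOf (m s) (hm s).2))
      (fun s => by ext : 1; exact CommGrp.hom_ext _ _ (hm s).1)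
      (fun s m' h => by
        ext : 1; apply CommGrp.hom_ext
        rw [← cancel_epi f.hom.hom.hom.hom]
        exact (congrArg (fun m => m.hom.hom.hom.hom) h).trans (hm s).1.symm)⟩⟩

omit hP in
theorem lft_qc_quot {G H : Over (Spec (CommRingCat.of k))} (q : G ⟶ H) [Surjective q.left] [Flat q.left]
    [LocallyOfFinitePresentation q.left] [LocallyOfFiniteType G.hom] [QuasiCompact G.hom] :
    LocallyOfFiniteType H.hom ∧ QuasiCompact H.hom := by
  haveI : LocallyOfFiniteType (q.left ≫ H.hom) := by rw [Over.w q]; infer_instance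
  haveI : QuasiCompact (q.left ≫ H.hom) := by rw [Over.w q]; infer_instance
  exact ⟨SrcDescent.locallyOfFiniteType_of_fppf_comp q.left H.hom,
    MorLib.quasiCompact_of_comp_surjective q.left H.hom⟩

/-- A closed class of commutative algebraic groups is an abelian category. -/
theorem abelian : Nonempty (Abelian P.FullSubcategory) :=
  ⟨{ toIsNormalMonoCategory := isNormalMonoCategory hP
     toIsNormalEpiCategory := isNormalEpiCategory hP
     has_finite_products := hasFiniteProducts hP
     has_kernels := hasKernels hP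
     has_cokernels := hasCokernels hP }⟩

omit hP in
variable (k) in
theorem closed_lft_qc : Closed (fun G : CG k => LocallyOfFiniteType G.X.hom ∧ QuasiCompact G.X.hom) where
  lft _ h := h.1
  qc _ h := h.2
  terminal G hG := ⟨inferInstance, inferInstance⟩
  prod G H P' hG hH e := by
    haveI := hG.1; haveI := hG.2; haveI := hH.1; haveI := hH.2
    rw [e]
    constructor
    · show LocallyOfFiniteType (pullback.fst _ _ ≫ G.X.hom); infer_instance
    · show QuasiCompact (pullback.fst _ _ ≫ G.X.hom); infer_instance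
  sub G H i hi hG := by
    haveI := hG.1; haveI := hG.2; haveI := hi
    rw [← Over.w i]
    exact ⟨inferInstance, inferInstance⟩
  quot G H q hq hqs hqf hql _ hG := by
    haveI := hG.1; haveI := hG.2; haveI := hqs; haveI := hqf; haveI := hql
    exact lft_qc_quot q

omit hP in
/-- A faithfully flat quotient of an affine algebraic group is affine. -/
theorem isAffine_quot {G H : Over (Spec (CommRingCat.of k))} [GrpObj G] [GrpObj H] [IsCommMonObj G] [IsAffine G.left]
    [LocallyOfFiniteType G.hom] (q : G ⟶ H) [IsMonHom q] [Surjective q.left] [Flat q.left]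
    [LocallyOfFinitePresentation q.left] : IsAffine H.left := by
  haveI : LocallyOfFiniteType (q.left ≫ H.hom) := by rw [Over.w q]; infer_instance
  haveI : LocallyOfFiniteType H.hom := SrcDescent.locallyOfFiniteType_of_fppf_comp q.left H.hom
  haveI := RedImage.isSeparated_artinian H
  obtain ⟨N, _, i, _, hic, hn, hk⟩ := GrpSchLib.exists_kernel q
  haveI := hic
  haveI : Mono i := Over.mono_of_mono_left i
  obtain ⟨Q, _, q', hq', hQa, hQ, hqf', hqs', hk'⟩ := S3278.result k G N i hn
  haveI := hq'; haveI := hqf'; haveI := hqs'; haveI := hQa; haveI := hQ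
  haveI : LocallyOfFiniteType (q'.left ≫ Q.hom) := by rw [Over.w q']; infer_instance
  haveI : LocallyOfFiniteType q'.left := locallyOfFiniteType_of_comp _ Q.hom
  haveI : IsLocallyNoetherian Q.left := LocallyOfFiniteType.isLocallyNoetherian Q.hom
  haveI : LocallyOfFinitePresentation q'.left := LocallyOfFinitePresentation.iff_locallyOfFiniteType.2 ‹_›
  have h₁ := AGFLib.QuasiComp.isQuotient_of_kernel i q hk
  have h₂ := AGFLib.QuasiComp.isQuotient_of_kernel i q' hk'
  obtain ⟨a, ha, -⟩ := S5237.result i hn q h₁ q' hk'.w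
  obtain ⟨b, hb, -⟩ := S5237.result i hn q' h₂ q hk.w
  haveI : Epi q := (covers q).over_epi
  haveI : Epi q' := (covers q').over_epi
  let e : H ≅ Q := ⟨a, b, by rw [← cancel_epi q, reassoc_of% ha.1, hb.1, Category.comp_id],
    by rw [← cancel_epi q', reassoc_of% hb.1, ha.1, Category.comp_id]⟩
  haveI : IsAffine ((Over.forget (Spec (CommRingCat.of k))).obj Q) := hQa
  exact .of_isIso ((Over.forget _).mapIso e).hom

omit hP in
variable (k) in
theorem closed_affine : Closed (fun G : CG k =>
    LocallyOfFiniteType G.X.hom ∧ QuasiCompact G.X.hom ∧ IsAffine G.X.left) where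
  lft _ h := h.1
  qc _ h := h.2.1
  terminal G hG := ⟨inferInstance, inferInstance, .of_isIso G.X.hom⟩
  prod G H P' hG hH e := by
    obtain ⟨h₁, h₂⟩ := (closed_lft_qc k).prod G H P' ⟨hG.1, hG.2.1⟩ ⟨hH.1, hH.2.1⟩ e
    refine ⟨h₁, h₂, ?_⟩
    haveI := hG.2.2; haveI := hH.2.2
    rw [e]
    show IsAffine (pullback G.X.hom H.X.hom)
    infer_instance
  sub G H i hi hG := by
    haveI := hi
    haveI : IsAffine G.X.left := hG.2.2
    obtain ⟨h₁, h₂⟩ := (closed_lft_qc k).sub G H i hi ⟨hG.1, hG.2.1⟩
    exact ⟨h₁, h₂, isAffine_of_isAffineHom i.left⟩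
  quot G H q hq hqs hqf hql hsep hG := by
    obtain ⟨h₁, h₂⟩ := (closed_lft_qc k).quot G H q hq hqs hqf hql hsep ⟨hG.1, hG.2.1⟩
    haveI := hG.1; haveI := hG.2.2; haveI := hq; haveI := hqs; haveI := hqf; haveI := hql
    exact ⟨h₁, h₂, isAffine_quot q⟩

end Groth.Agent.CommAlgGrp
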